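import Mathlib.Algebra.Homology.DerivedCategory.ExactFunctor
import Mathlib.CategoryTheory.Localization.Adjunction
import Mathlib.Algebra.Homology.HomologySequence
import Mathlib.Algebra.Homology.DerivedCategory.HomologySequence

/-!
# Adjoint exact functors on derived categories
-/

set_option autoImplicit false
set_option backward.isDefEq.respectTransparency false
set_option backward.isDefEq.respectTransparency.types false

universe w w' v v' u u'

open CategoryTheory CategoryTheory.Limits

noncomputable section

namespace Groth.Agent.DerPushLib

variable {A : Type u} [Category.{v} A] [Abelian A] {B : Type u'} [Category.{v'} B] [Abelian B]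
  {F : A ⥤ B} {G : B ⥤ A} (adj : F ⊣ G) [F.Additive] [G.Additive]

section

variable {ι : Type} (c : ComplexShape ι)

/-- The unit on complexes. -/
def unitHC : 𝟭 (HomologicalComplex A c) ⟶ F.mapHomologicalComplex c ⋙ G.mapHomologicalComplex c where
  app K :=
    { f := fun i => adj.unit.app (K.X i)
      comm' := fun i j _ => (adj.unit.naturality (K.d i j)).symm }
  naturality _ _ f := HomologicalComplex.hom_ext _ _ fun i => adj.unit.naturality (f.f i)

/-- The counit on complexes. -/
def counitHC : G.mapHomologicalComplex c ⋙ F.mapHomologicalComplex c ⟶ 𝟭 (HomologicalComplex B c) where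
  app K :=
    { f := fun i => adj.counit.app (K.X i)
      comm' := fun i j _ => (adj.counit.naturality (K.d i j)).symm }
  naturality _ _ f := HomologicalComplex.hom_ext _ _ fun i => adj.counit.naturality (f.f i)

/-- The adjunction on complexes. -/
def adjHC : F.mapHomologicalComplex c ⊣ G.mapHomologicalComplex c where
  unit := unitHC adj c
  counit := counitHC adj c
  left_triangle_components K := HomologicalComplex.hom_ext _ _ fun i => adj.left_triangle_components (K.X i)
  right_triangle_components K := HomologicalComplex.hom_ext _ _ fun i => adj.right_triangle_components (K.X i)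

end

variable [HasDerivedCategory.{w} A] [HasDerivedCategory.{w'} B]
  [PreservesFiniteLimits F] [PreservesFiniteColimits F] [PreservesFiniteLimits G] [PreservesFiniteColimits G]

instance catCommSqF : CatCommSq (F.mapHomologicalComplex (ComplexShape.up ℤ)) DerivedCategory.Q DerivedCategory.Q
    F.mapDerivedCategory :=
  ⟨F.mapDerivedCategoryFactors.symm⟩

/-- The adjunction on derived categories. -/
def adjD : F.mapDerivedCategory ⊣ G.mapDerivedCategory :=
  (adjHC adj (ComplexShape.up ℤ)).localization DerivedCategory.Q (HomologicalComplex.quasiIso A _)
    DerivedCategory.Q (HomologicalComplex.quasiIso B _) F.mapDerivedCategory G.mapDerivedCategory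

theorem isIso_counit_adjD (h : ∀ X, IsIso (adj.counit.app X)) : IsIso (adjD adj).counit := by
  haveI : ∀ X, IsIso ((adjD adj).counit.app X) := fun X => by
    let K := DerivedCategory.Q.objPreimage X
    refine (NatTrans.isIso_app_iff_of_iso _ (DerivedCategory.Q.objObjPreimageIso X)).1 ?_
    haveI : ∀ i, IsIso (((adjHC adj (ComplexShape.up ℤ)).counit.app K).f i) := fun i => h (K.X i)
    haveI := HomologicalComplex.Hom.isIso_of_components ((adjHC adj (ComplexShape.up ℤ)).counit.app K)
    rw [adjD, Adjunction.localization_counit_app]
    infer_instance
  exact NatIso.isIso_of_isIso_app _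

theorem fullyFaithful_mapDerived (h : ∀ X, IsIso (adj.counit.app X)) :
    G.mapDerivedCategory.Full ∧ G.mapDerivedCategory.Faithful :=
  haveI := isIso_counit_adjD adj h
  ⟨(adjD adj).fullyFaithfulROfIsIsoCounit.full, (adjD adj).fullyFaithfulROfIsIsoCounit.faithful⟩

theorem mem_essImage_of_quasiIso (K : CochainComplex A ℤ)
    (h : QuasiIso ((adjHC adj (ComplexShape.up ℤ)).unit.app K)) :
    G.mapDerivedCategory.essImage (DerivedCategory.Q.obj K) := by
  haveI : IsIso (DerivedCategory.Q.map ((adjHC adj (ComplexShape.up ℤ)).unit.app K)) := by infer_instance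
  haveI : IsIso ((adjD adj).unit.app (DerivedCategory.Q.obj K)) := by
    rw [adjD, Adjunction.localization_unit_app]
    infer_instance
  exact (adjD adj).mem_essImage_of_unit_isIso _

/-- Exact functors commute with homology of objects of the derived category. -/
theorem nonempty_homology_iso (K : CochainComplex A ℤ) (n : ℤ) :
    Nonempty ((DerivedCategory.homologyFunctor B n).obj (F.mapDerivedCategory.obj (DerivedCategory.Q.obj K)) ≅
      F.obj (K.homology n)) :=
  ⟨(DerivedCategory.homologyFunctor B n).mapIso (F.mapDerivedCategoryFactors.app K) ≪≫
    (DerivedCategory.homologyFunctorFactors B n).app _ ≪≫ (K.sc n).mapHomologyIso F⟩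

end Groth.Agent.DerPushLib
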